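import Cfsg.Agent.H934.OutB
import Cfsg.Agent.H199.Out.Dick
import Cfsg.Agent.H955.QSpace
import Cfsg.Agent.LieClassical.OrthFinite
import Cfsg.Agent.S0294
import Cfsg.Agent.S0297
import Cfsg.Agent.S0818

/-!
# S3691, row `Ω_8^-(q)`: parts M4, M5

* `ominus8_parts` : the `p`-parts of `|PΩ_8^-(q)|` and of the outer automorphism group;
* `faithful_even` : `q` even, an element of `E Q` fixing a nonsingular vector `v` and acting trivially on `v^⊥ / v` is `1`.
-/

set_option autoImplicit false

namespace Cfsg.Agent.H212.Rg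

open Module QuadraticMap Cfsg Cfsg.Agent.LieClassical.OrthCore Cfsg.Agent.LieClassical.OrthTrans
  Cfsg.Agent.LieClassical.OrthFinite Cfsg.Agent.H955
open scoped MatrixGroups Matrix

universe u v

section parts

theorem not_dvd_sub {p q k : ℕ} (hp : p.Prime) (hpq : p ∣ q) (hq : 0 < q) (hk : k ≠ 0) : ¬ p ∣ q ^ k - 1 := by
  intro h
  have h1 : p ∣ q ^ k := dvd_pow hpq hk
  have h2 : 1 ≤ q ^ k := Nat.one_le_pow _ _ hq
  have h3 : p ∣ q ^ k - (q ^ k - 1) := Nat.dvd_sub h1 h
  have h4 : q ^ k - (q ^ k - 1) = 1 := by omega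
  rw [h4] at h3
  exact hp.one_lt.ne' (Nat.dvd_one.1 h3)

theorem not_dvd_add {p q k : ℕ} (hp : p.Prime) (hpq : p ∣ q) (hk : k ≠ 0) : ¬ p ∣ q ^ k + 1 := by
  intro h
  have h1 : p ∣ q ^ k := dvd_pow hpq hk
  have h3 : p ∣ 1 := (Nat.dvd_add_right h1).1 h
  exact hp.one_lt.ne' (Nat.dvd_one.1 h3)

/-- (M4) the `p`-parts of `|S|` and `|Out S|` -/
theorem ominus8_parts {S : Type u} [Group S] [Finite S] (hna : ¬ IsMulCommutative S) {F : Type} [Field F] [Fintype F]
    {p f : ℕ} (hp : p.Prime) (hf : 1 ≤ f) (hF : Fintype.card F = p ^ f) {a b : F}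
    (hab : ∀ z₁ z₂ : F, z₁ ^ 2 + a * z₁ * z₂ + b * z₂ ^ 2 = 0 → z₁ = 0 ∧ z₂ = 0)
    (e : Nonempty (S ≃* POmega F (quadFormMinus 3 F a b))) :
    (Nat.card S).factorization p = 12 * f ∧
      (Nat.card (Cfsg.Out S)).factorization p ≤ f.factorization p + (if p = 2 then 1 else 0) := by
  obtain ⟨e⟩ := e
  have hfp : Fact p.Prime := ⟨hp⟩
  have hcS : Nat.card S = Nat.card (POmega F (quadFormMinus 3 F a b)) := Nat.card_congr e.toEquiv
  have hS0 : Nat.card S ≠ 0 := Nat.card_pos.ne'
  constructor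
  · have h1 := Cfsg.Agent.S0294.result hF 4 le_rfl a b hab
    rw [show 4 - 1 = 3 from rfl, ← hcS] at h1
    have hpq : p ∣ p ^ f := dvd_pow_self p (by omega)
    have hq0 : 0 < p ^ f := pow_pos hp.pos f
    have hg : ¬ p ∣ Nat.gcd 4 ((p ^ f) ^ 4 + 1) := fun h =>
      not_dvd_add hp hpq (k := 4) (by norm_num) (h.trans (Nat.gcd_dvd_right _ _))
    have hpr : ¬ p ∣ ∏ i ∈ Finset.range 3, ((p ^ f) ^ (2 * (i + 1)) - 1) := by
      rw [hp.prime.dvd_finsetProd_iff]
      rintro ⟨i, -, hi⟩
      exact not_dvd_sub hp hpq hq0 (by omega) hi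
    have hpr0 : ∏ i ∈ Finset.range 3, ((p ^ f) ^ (2 * (i + 1)) - 1) ≠ 0 := fun h0 => hpr (by rw [h0]; exact dvd_zero p)
    have h2 := congrArg (fun n : ℕ => n.factorization p) h1
    beta_reduce at h2
    rw [Nat.factorization_mul (fun h0 => hg (by rw [h0]; exact dvd_zero p)) hS0,
      Nat.factorization_mul (Nat.mul_ne_zero (pow_ne_zero _ hq0.ne') (Nat.succ_ne_zero _)) hpr0,
      Nat.factorization_mul (pow_ne_zero _ hq0.ne') (Nat.succ_ne_zero _), Nat.factorization_pow,
      Nat.factorization_pow] at h2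
    simp only [Finsupp.add_apply, Finsupp.smul_apply, smul_eq_mul, hp.factorization_self] at h2
    rw [Nat.factorization_eq_zero_of_not_dvd hg, Nat.factorization_eq_zero_of_not_dvd hpr,
      Nat.factorization_eq_zero_of_not_dvd (not_dvd_add hp hpq (k := 4) (by norm_num))] at h2
    omega
  · have hsim : IsSimpleGroup (POmega F (quadFormMinus 3 F a b)) := Cfsg.Agent.S0297.result 4 le_rfl a b hab
    have hS : IsSimpleGroup S := e.isSimpleGroup
    have h1 := H934.OutB.card_out_mul S hna
    have h2 := Cfsg.Agent.S0818.result p f hf hF 4 le_rfl a b hab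
    rw [show 4 - 1 = 3 from rfl, ← hcS] at h2
    have h3 : Nat.card (MulAut S) = Nat.card (MulAut (POmega F (quadFormMinus 3 F a b))) :=
      Nat.card_congr (MulAut.congr e).toEquiv
    rw [← h1, h2] at h3
    have h4 := Nat.eq_of_mul_eq_mul_right (Nat.pos_of_ne_zero hS0) h3
    rw [h4]
    by_cases hp2 : p = 2
    · subst hp2
      rw [if_pos rfl, if_pos rfl, Nat.factorization_mul (by norm_num) (by omega), Finsupp.add_apply,
        Nat.prime_two.factorization_self, add_comm]
    · rw [if_neg hp2, if_neg hp2, add_zero]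
      have key : ∀ c : ℕ, c ≠ 0 → ¬ p ∣ c → (c * f).factorization p ≤ f.factorization p := by
        intro c hc hpc
        rw [Nat.factorization_mul hc (by omega), Finsupp.add_apply, Nat.factorization_eq_zero_of_not_dvd hpc, zero_add]
      have h2n : ∀ k, ¬ p ∣ 2 ^ k := fun k h => hp2 ((Nat.prime_dvd_prime_iff_eq hp Nat.prime_two).1 (hp.dvd_of_dvd_pow h))
      split_ifs
      · exact key 4 (by norm_num) (h2n 2)
      · exact key 8 (by norm_num) (h2n 3)

end parts

section faithful

open Cfsg.Agent.H199.Out Cfsg.Agent.H375.Odd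

/-- (M5) the stabiliser of a nonsingular vector in `Ω`, `q` even, acts faithfully on `v^⊥ / v` -/
theorem faithful_even {F : Type u} [Field F] [Finite F] {V : Type v} [AddCommGroup V] [Module F V] [FiniteDimensional F V]
    {Q : QuadraticForm F V} (h2 : (2 : F) = 0) (hQ : Nondeg Q) (hn : 6 ≤ finrank F V) {v : V} (hv : Q v ≠ 0)
    {g : V ≃ₗ[F] V} (hg : g ∈ E Q) (hgv : g v = v) (hg1 : ∀ u ∈ perp Q (Submodule.span F {v}), ∃ c : F, g u = u + c • v) :
    g = 1 := by
  have hG : Good Q := good_of_finite hQ (by omega)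
  have hch : CharP F 2 := CharTwo.of_one_ne_zero_of_two_eq_zero one_ne_zero h2
  have hβ : Alt (polarBilin Q) := by
    refine ⟨fun w => ?_, fun w hw => hQ w hw⟩
    change polar Q w w = 0
    rw [QuadraticMap.polar_self, two_smul, ← two_mul, h2, zero_mul]
  have hqf : QF Q (polarBilin Q) := by
    refine ⟨fun x y => ?_, fun c x => ?_⟩
    · exact QuadraticMap.map_add Q x y
    · rw [QuadraticMap.map_smul, smul_eq_mul, pow_two]
  have hOO : ∀ x, x ∈ O Q ↔ x ∈ OQ (Q : V → F) := fun x => Iff.rfl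
  -- the Dickson invariant
  have hEO : E Q ≤ OM hβ hqf := by
    rw [← hG.commutator_eq_E, Subgroup.commutator_le]
    intro x hx y hy
    have hx' := (hOO x).1 hx
    have hy' := (hOO y).1 hy
    rw [commutatorElement_def]
    by_cases h : y ∈ OM hβ hqf
    · exact (OM hβ hqf).mul_mem (conj_mem_OM hβ hqf h hx') ((OM hβ hqf).inv_mem h)
    · refine mul_mem_OM hβ hqf ((OQ _).mul_mem ((OQ _).mul_mem hx' hy') ((OQ _).inv_mem hx')) ((OQ _).inv_mem hy') ?_ ?_
      · intro h1
        apply h
        have := conj_mem_OM hβ hqf h1 ((OQ _).inv_mem hx')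
        have e1 : x⁻¹ * (x * y * x⁻¹) * (x⁻¹)⁻¹ = y := by group
        rwa [e1] at this
      · intro h1
        apply h
        have := (OM hβ hqf).inv_mem h1
        rwa [inv_inv] at this
  obtain ⟨hgO, heven⟩ := hEO hg
  -- `g` is trivial on `v^⊥`
  have hfix : ∀ u, polar Q v u = 0 → g u = u := by
    intro u hu
    have hup : u ∈ perp Q (Submodule.span F {v}) := by
      rw [mem_perp]
      intro w hw
      obtain ⟨c, rfl⟩ := Submodule.mem_span_singleton.1 hw
      rw [polar_smul_left, hu, smul_zero]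
    obtain ⟨c, hc⟩ := hg1 u hup
    have h3 : Q (g u) = Q u := hgO u
    rw [hc, QuadraticMap.map_add Q, QuadraticMap.map_smul, polar_smul_right, polar_comm, hu, smul_zero, add_zero,
      smul_eq_mul] at h3
    have h4 : c * c * Q v = 0 := by
      have : Q u + c * c * Q v = Q u + 0 := by rw [h3, add_zero]
      exact add_left_cancel this
    have h5 : c = 0 := by
      rcases mul_eq_zero.1 h4 with h5 | h5
      · exact mul_self_eq_zero.1 h5
      · exact absurd h5 hv
    rw [hc, h5, zero_smul, add_zero]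
  -- the commutator space is in the span of `v`
  have hv0 : v ≠ 0 := by
    rintro rfl
    exact hv (QuadraticMap.map_zero Q)
  have hpol : ∀ x y, polar Q (g x) (g y) = polar Q x y := by
    intro x y
    rw [polar, polar, ← map_add, hgO, hgO, hgO]
  have hrange : bW g ≤ Submodule.span F {v} := by
    rintro _ ⟨w, rfl⟩
    change g w - w ∈ Submodule.span F {v}
    -- `g w - w` is orthogonal to `v^⊥`
    have h3 : ∀ u, polar Q v u = 0 → polar Q (g w - w) u = 0 := by
      intro u hu
      rw [sub_eq_add_neg, polar_add_left, polar_neg_left]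
      conv_lhs => rw [show polar Q (g w) u = polar Q (g w) (g u) by rw [hfix u hu]]
      rw [hpol]
      exact add_neg_cancel _
    obtain ⟨y, hy⟩ := hQ.exists_polar_ne hv0
    rw [Submodule.mem_span_singleton]
    refine ⟨polar Q (g w - w) y * (polar Q v y)⁻¹, ?_⟩
    rw [← sub_eq_zero, ← neg_eq_zero]
    generalize g w - w = x at h3 ⊢
    apply hQ
    intro z
    have h4 := h3 (z - (polar Q v z * (polar Q v y)⁻¹) • y) (by
      rw [sub_eq_add_neg, polar_add_right, polar_neg_right, polar_smul_right, smul_eq_mul, mul_assoc,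
        inv_mul_cancel₀ hy, mul_one]
      exact add_neg_cancel _)
    rw [sub_eq_add_neg, polar_add_right, polar_neg_right, polar_smul_right, smul_eq_mul, ← sub_eq_add_neg,
      sub_eq_zero] at h4
    rw [neg_sub, sub_eq_add_neg, polar_add_left, polar_neg_left, polar_smul_left, smul_eq_mul, h4, ← sub_eq_add_neg,
      sub_eq_zero]
    ring
  have hfr : finrank F (bW g) ≤ 1 := (Submodule.finrank_mono hrange).trans (finrank_span_singleton hv0).le
  have h0 : finrank F (bW g) = 0 := by
    obtain ⟨k, hk⟩ := heven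
    omega
  have h1 : bW g = ⊥ := Submodule.finrank_eq_zero.1 h0
  apply LinearEquiv.ext
  intro w
  have h3 : g w - w ∈ bW g := ⟨w, rfl⟩
  rw [h1, Submodule.mem_bot, sub_eq_zero] at h3
  exact h3

end faithful

end Cfsg.Agent.H212.Rg
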